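import Cfsg.Agent.Lib.Helper7.GlS3.Defs
import Cfsg.Agent.Lib.Helper2.GlS3.SL2S3

set_option autoImplicit false

namespace Cfsg.Agent.Lib.Helper2.GlS3

open Subgroup Cfsg.Agent.Lib.Helper7.GlS3 Cfsg.Agent.Lib.Helper48

/-- XG -/
theorem prod_S3 {G : Type*} [Group G] [Finite G] (V H : Subgroup G)
    (hV : Cfsg.IsElementaryAbelian 2 V) (hHV : H ≤ normalizer (V : Set G))
    (hf : H ⊓ centralizer (V : Set G) = ⊥)
    (hS1 : centralizer (Cfsg.pPrimeCore 2 ↥H : Set ↥H) ≤ Cfsg.pPrimeCore 2 ↥H)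
    (hS3 : H = ⨆ A : {A : Subgroup G // A ≤ H ∧ Cfsg.IsBestOffenderOn 2 V A}, (A : Subgroup G))
    (hH1 : H ≠ ⊥) : ∃ n : ℕ, 1 ≤ n ∧ Nonempty (↥H ≃* (Fin n → Equiv.Perm (Fin 3))) := by
  haveI : Fact (Nat.Prime 2) := ⟨Nat.prime_two⟩
  obtain ⟨-, hE, hind, hsup, -, -⟩ := Cfsg.Agent.S0617.result V H hV hHV hf hS1 hS3 hH1
  obtain ⟨e0⟩ := sl2_two_equiv
  refine ⟨_, ?_, prod_equiv _ H (fun E => (hE E).1) hind hsup
    (fun E => ⟨((hE E).2.1.some).trans e0⟩)⟩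
  rw [Nat.one_le_iff_ne_zero]
  intro h0
  rcases Nat.card_eq_zero.1 h0 with h | h
  · apply hH1
    rw [← hsup]
    exact iSup_of_empty _
  · exact h.false

end Cfsg.Agent.Lib.Helper2.GlS3
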