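import Cfsg.Agent.Lib.Helper7.GlS3.Defs
import Cfsg.Agent.Lib.Helper2.GlS3.XG

set_option autoImplicit false

namespace Cfsg.Agent.Lib.Helper2.GlS3

open Subgroup Cfsg.Agent.Lib.Helper7.GlS3 Cfsg.Agent.Lib.Helper48

/-- XR -/
theorem hyp_of_char {K : Type*} [Group K] (V : Subgroup K) [V.Characteristic] [Finite K]
    (hV : Cfsg.IsElementaryAbelian 2 V)
    (hsol : Cfsg.IsPSolvable 2 K) {J : Subgroup K} (hJ : J.Normal) (𝒜 : Set (Subgroup K))
    (hJA : J = sSup 𝒜) (h𝒜 : ∀ A ∈ 𝒜, Cfsg.IsBestOffenderOn 2 V A)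
    (hD : ∀ D : Subgroup K, D.Normal → centralizer (V : Set K) ≤ D →
      (∃ k : ℕ, (centralizer (V : Set K)).relIndex D = 2 ^ k) → D = centralizer (V : Set K))
    (hne : ¬ J ≤ centralizer (V : Set K)) :
    ∃ n : ℕ, 1 ≤ n ∧ Nonempty (↥(J.map (ps V)) ≃* (Fin n → Equiv.Perm (Fin 3))) := by
  haveI : Fact (Nat.Prime 2) := ⟨Nat.prime_two⟩
  have hH1 : J.map (ps V) ≠ ⊥ := by
    intro h
    apply hne
    rw [← ps_ker]
    exact (Subgroup.map_eq_bot_iff _).mp h
  apply prod_S3 _ _ (isElementaryAbelian_range_la V hV)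
    ((map_ps_le_range_Th V J).trans (range_Th_le_normalizer V))
  · rw [eq_bot_iff, ← range_Th_inf_centralizer V]
    exact inf_le_inf_right _ (map_ps_le_range_Th V J)
  · apply centralizer_pPrimeCore_le _ (pCore_map_ps_eq_bot V hJ hD)
    exact Cfsg.Agent.Lib.Helper69.isPSolvable_of_surj ((ps V).subgroupMap J)
      ((ps V).subgroupMap_surjective J) (Cfsg.Agent.Lib.Helper69.isPSolvable_subgroup J hsol)
  · apply le_antisymm
    · rw [map_le_iff_le_comap, hJA]
      apply sSup_le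
      intro A hA
      rw [← map_le_iff_le_comap, ← hJA]
      exact le_iSup (fun A' : {A' : Subgroup (Equiv.Perm V) // A' ≤ J.map (ps V) ∧
        Cfsg.IsBestOffenderOn 2 (la V).range A'} => (A' : Subgroup (Equiv.Perm V)))
        ⟨A.map (ps V), map_mono (hJA ▸ le_sSup hA), isBestOffenderOn_map_ps V (h𝒜 A hA)⟩
    · exact iSup_le (fun A' => A'.2.1)
  · exact hH1

end Cfsg.Agent.Lib.Helper2.GlS3
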