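import Cfsg.Agent.Lib.Helper7.GlS3.Defs

set_option autoImplicit false

namespace Cfsg.Agent.Lib.Helper2.GlS3

open Subgroup Cfsg.Agent.Lib.Helper7.GlS3 Cfsg.Agent.Lib.Helper48

/-- XT -/
theorem maxProd_map {X : Type*} [Group X] [Finite X] (V : Subgroup X) [V.Characteristic]
    (A : Subgroup X) (hA : MaxProd V A) : MaxProd (la V).range (A.map (ps V)) := by
  intro B' hB'
  set B := A ⊓ B'.comap (ps V) with hB
  have hBmap : B.map (ps V) = B' := by
    apply le_antisymm
    · rintro _ ⟨b, hb, rfl⟩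
      exact (mem_inf.mp hb).2
    · intro σ hσ
      obtain ⟨a, ha, rfl⟩ := hB' hσ
      exact ⟨a, mem_inf.mpr ⟨ha, hσ⟩, rfl⟩
  have hBC : B ⊓ centralizer (V : Set X) = A ⊓ centralizer (V : Set X) := by
    apply le_antisymm (inf_le_inf_right _ inf_le_left)
    intro c hc
    obtain ⟨hc1, hc2⟩ := mem_inf.mp hc
    refine mem_inf.mpr ⟨mem_inf.mpr ⟨hc1, ?_⟩, hc2⟩
    rw [mem_comap, (ps_eq_one_iff V c).mpr hc2]
    exact one_mem _
  have h4 := hA B inf_le_left
  rw [← hBmap, card_range_la_inf_centralizer, card_range_la_inf_centralizer]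
  rw [← card_map_ps V B, ← card_map_ps V A, hBC, mul_assoc, mul_assoc] at h4
  exact Nat.le_of_mul_le_mul_left h4 Nat.card_pos

end Cfsg.Agent.Lib.Helper2.GlS3
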